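import Cfsg.Agent.H540.E8C.L13.Iface
import Cfsg.Agent.S1265
import Cfsg.Agent.ClassicalGeometry.AutPSL.Main
import Cfsg.Agent.ClassicalGeometry.PSL2Solvable
import Cfsg.Agent.LieClassical.FieldTransfer

/-!
# S5919, task GRP13 (helper1): finite groups with generalized Fitting subgroup `PSL₂(13)`
-/

set_option autoImplicit false

namespace Cfsg.Agent.H1.L13

open Matrix
open Cfsg.Agent.H540.E8C.L13 (Q uu Grp13)
open Cfsg.Agent.ClassicalGeometry.AutPSL.Root
open Cfsg.Agent.ClassicalGeometry.AutPSL.Auto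
open Cfsg.Agent.ClassicalGeometry.AutPSL.Main (surj_two cj_eq_one_of_scalar)

universe u

instance fact13 : Fact (Nat.Prime 13) := ⟨by norm_num⟩

local notation "P13" => Matrix.ProjectiveSpecialLinearGroup (Fin 2) (ZMod 13)
local notation "GL13" => Matrix.GeneralLinearGroup (Fin 2) (ZMod 13)

theorem psl_simple : IsSimpleGroup P13 :=
  Matrix.ProjectiveSpecialLinearGroup.rank_two_simple (by rw [Nat.card_eq_fintype_card, ZMod.card]; omega)

theorem psl_center : Subgroup.center P13 = ⊥ := by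
  have hPs := psl_simple
  have h1 : ¬ ∀ a b : P13, a * b = b * a := fun h =>
    Cfsg.Agent.ClassicalGeometry.PSL2Solvable.not_isSolvable_psl (ZMod 13) (by rw [ZMod.card]; omega)
      (Group.isSolvable_of_comm h)
  push Not at h1
  obtain ⟨a, b, hab⟩ := h1
  rcases (inferInstance : (Subgroup.center P13).Normal).eq_bot_or_eq_top with h | h
  · exact h
  · exact absurd (Subgroup.mem_center_iff.1 (by rw [h]; exact Subgroup.mem_top b) a) hab

theorem sq_one : ∀ r : ZMod 13, r ^ 2 = 1 → r = 1 ∨ r = -1 := by decide +kernel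

/-- the centre of `SL₂(13)` -/
theorem pr_eq_one (g : Q) : pr g = 1 ↔ g = 1 ∨ g = -1 := by
  rw [pr_eq_one_iff, Matrix.SpecialLinearGroup.mem_center_iff]
  constructor
  · rintro ⟨r, hr, he⟩
    rw [Fintype.card_fin] at hr
    rcases sq_one r hr with rfl | rfl
    · left
      apply Subtype.ext
      rw [← he]; simp
    · right
      apply Subtype.ext
      rw [← he, Matrix.SpecialLinearGroup.coe_neg, Matrix.SpecialLinearGroup.coe_one]
      ext i j; fin_cases i <;> fin_cases j <;> simp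
  · rintro (rfl | rfl)
    · exact ⟨1, by simp, by simp⟩
    · exact ⟨-1, by simp, by ext i j; fin_cases i <;> fin_cases j <;> simp⟩

/-- every automorphism of `PSL₂(13)` is induced by `GL₂(13)` -/
theorem exists_gl (α : MulAut P13) : ∃ A : GL13, α = lift (cj A) := by
  obtain ⟨A, σ, h⟩ := surj_two 13 α
  have hσ : σ = 1 := Subsingleton.elim _ _
  exact ⟨A, by rw [h, hσ, map_one, mul_one]⟩

theorem cj_toGL (g : Q) : cj (Matrix.SpecialLinearGroup.toGL g) = MulAut.conj g := by
  apply MulEquiv.ext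
  intro x
  apply Subtype.ext
  rw [coe_cj, MulAut.conj_apply, ← map_inv]
  rfl

theorem lift_conj (g : Q) : lift (MulAut.conj g) = MulAut.conj (pr g) := by
  apply MulEquiv.ext
  intro x
  obtain ⟨y, rfl⟩ := pr_surjective x
  rw [lift_pr, MulAut.conj_apply, MulAut.conj_apply, map_mul, map_mul, map_inv]

theorem lift_cj_eq {A : GL13} {d : ZMod 13} {g : Q}
    (h : (A : Matrix (Fin 2) (Fin 2) (ZMod 13)) = d • (g : Matrix (Fin 2) (Fin 2) (ZMod 13))) :
    lift (cj A) = MulAut.conj (pr g) := by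
  have h1 : scalar (Fin 2) d = ((A * (Matrix.SpecialLinearGroup.toGL g)⁻¹ : GL13) :
      Matrix (Fin 2) (Fin 2) (ZMod 13)) := by
    rw [Units.val_mul, ← map_inv]
    change _ = (A : Matrix (Fin 2) (Fin 2) (ZMod 13)) * ((g⁻¹ : Q) : Matrix (Fin 2) (Fin 2) (ZMod 13))
    rw [h, Matrix.smul_mul, ← Matrix.SpecialLinearGroup.coe_mul, mul_inv_cancel,
      Matrix.SpecialLinearGroup.coe_one, scalar_apply, smul_one_eq_diagonal]
  have h2 := cj_eq_one_of_scalar h1
  rw [map_mul, map_inv, mul_inv_eq_one] at h2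
  rw [h2, cj_toGL, lift_conj]

/-- the automorphisms induced by elements of square determinant are inner -/
theorem inner_of_square {A : GL13} (h : IsSquare (A : Matrix (Fin 2) (Fin 2) (ZMod 13)).det) :
    ∃ g : Q, lift (cj A) = MulAut.conj (pr g) := by
  obtain ⟨d, hd⟩ := h
  have hA : (A : Matrix (Fin 2) (Fin 2) (ZMod 13)).det ≠ 0 := by
    have := (Matrix.GeneralLinearGroup.det A).ne_zero
    exact this
  have hd0 : d ≠ 0 := by
    rintro rfl
    exact hA (by rw [hd, mul_zero])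
  refine ⟨⟨d⁻¹ • (A : Matrix (Fin 2) (Fin 2) (ZMod 13)), ?_⟩, lift_cj_eq (d := d) ?_⟩
  · rw [Matrix.det_smul, hd, Fintype.card_fin]
    field_simp
  · change (A : Matrix (Fin 2) (Fin 2) (ZMod 13)) = d • d⁻¹ • (A : Matrix (Fin 2) (Fin 2) (ZMod 13))
    rw [smul_smul, mul_inv_cancel₀ hd0, one_smul]

theorem sq_mul : ∀ a b : ZMod 13, ¬ IsSquare a → ¬ IsSquare b → IsSquare (a * b) := by
  have key : ∀ a b : ZMod 13, (∀ c, a ≠ c * c) → (∀ c, b ≠ c * c) → ∃ c, a * b = c * c := by decide +kernel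
  intro a b ha hb
  obtain ⟨c, hc⟩ := key a b (fun c hc => ha ⟨c, hc⟩) (fun c hc => hb ⟨c, hc⟩)
  exact ⟨c, hc⟩

/-- automorphisms fixing the class of `uu 1` -/
theorem inner_of_fix {A : GL13} (h : pr (cj A (uu 1)) = pr (uu 1)) :
    ∃ t : ZMod 13, lift (cj A) = MulAut.conj (pr (uu t)) := by
  obtain ⟨c, hc⟩ := exists_smul_of_pr_eq h
  have h1 : ((uu 1 : Q) : Matrix (Fin 2) (Fin 2) (ZMod 13)) * (A : Matrix (Fin 2) (Fin 2) (ZMod 13)) =
      c • ((A : Matrix (Fin 2) (Fin 2) (ZMod 13)) * ((uu 1 : Q) : Matrix (Fin 2) (Fin 2) (ZMod 13))) := by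
    have h2 : ((A⁻¹ : GL13) : Matrix (Fin 2) (Fin 2) (ZMod 13)) * (A : Matrix (Fin 2) (Fin 2) (ZMod 13)) = 1 := by
      rw [← Units.val_mul, inv_mul_cancel, Units.val_one]
    conv_lhs => rw [hc]
    rw [coe_cj, Matrix.smul_mul, Matrix.mul_assoc, h2, mul_one]
  have hA : (A : Matrix (Fin 2) (Fin 2) (ZMod 13)).det ≠ 0 := (Matrix.GeneralLinearGroup.det A).ne_zero
  obtain ⟨M, hM⟩ : ∃ M, M = (A : Matrix (Fin 2) (Fin 2) (ZMod 13)) := ⟨_, rfl⟩
  rw [← hM] at h1 hA
  have e00 := congrFun (congrFun h1 0) 0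
  have e01 := congrFun (congrFun h1 0) 1
  have e10 := congrFun (congrFun h1 1) 0
  have e11 := congrFun (congrFun h1 1) 1
  simp only [uu, Matrix.mul_apply, Fin.sum_univ_two, Matrix.smul_apply, smul_eq_mul, Matrix.of_apply,
    Matrix.cons_val', Matrix.cons_val_zero, Matrix.cons_val_one, Matrix.cons_val_fin_one, one_mul, mul_one, zero_mul,
    mul_zero, add_zero, zero_add] at e00 e01 e10 e11
  rw [Matrix.det_fin_two] at hA
  have h10 : M 1 0 = 0 := by
    by_contra h0
    have hc1 : c = 1 := by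
      have : (c - 1) * M 1 0 = 0 := by linear_combination -e10
      exact sub_eq_zero.1 ((mul_eq_zero.1 this).resolve_right h0)
    rw [hc1] at e00
    exact h0 (by linear_combination e00)
  rw [h10, mul_zero, sub_zero] at hA
  have h00 : M 0 0 ≠ 0 := fun h0 => hA (by rw [h0, zero_mul])
  have hc1 : c = 1 := by
    have : (c - 1) * M 0 0 = 0 := by rw [h10] at e00; linear_combination -e00
    exact sub_eq_zero.1 ((mul_eq_zero.1 this).resolve_right h00)
  have h11 : M 1 1 = M 0 0 := by rw [hc1] at e01; linear_combination e01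
  refine ⟨(M 0 0)⁻¹ * M 0 1, lift_cj_eq (d := M 0 0) ?_⟩
  rw [← hM]
  ext i j
  fin_cases i <;> fin_cases j
  · simp [uu]
  · simp [uu, mul_inv_cancel_left₀ h00]
  · simp [uu, h10]
  · simp [uu, h11]

/-- **Task GRP13.** -/
theorem grp13 : Grp13.{u} := by
  intro F _ _ hF H _ _ he
  obtain ⟨e0⟩ := he
  have hNn : (Cfsg.generalizedFittingSubgroup H).Normal := Cfsg.Agent.Lib.GenFitting.genFitting_normal
  have σ : F ≃+* ZMod 13 := Classical.choice (by
    have h1 : Fintype.card F = Fintype.card (ZMod 13) := by rw [hF, ZMod.card]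
    exact ⟨FiniteField.ringEquivOfCardEq h1⟩)
  obtain ⟨N, hN⟩ : ∃ N, N = Cfsg.generalizedFittingSubgroup H := ⟨_, rfl⟩
  have hself := Cfsg.Agent.S1265.result (G := H)
  rw [← hN] at e0 hNn hself
  rw [← hN]
  obtain ⟨e, -⟩ : ∃ e : ↥N ≃* P13, e = e0.trans (Cfsg.Agent.LieClassical.FieldTransfer.pslCongr (ι := Fin 2) σ) :=
    ⟨_, rfl⟩
  have hcen : Subgroup.centralizer (N : Set H) = ⊥ := by
    rw [eq_bot_iff]
    intro g hg
    have h1 := hself hg
    have h2 : (⟨g, h1⟩ : ↥N) ∈ Subgroup.center ↥N := by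
      rw [Subgroup.mem_center_iff]
      intro x
      exact Subtype.ext (Subgroup.mem_centralizer_iff.1 hg x x.2)
    have h3 : e ⟨g, h1⟩ ∈ Subgroup.center P13 := by
      rw [Subgroup.mem_center_iff] at h2 ⊢
      intro y
      obtain ⟨x, rfl⟩ := e.surjective y
      rw [← map_mul, h2 x, map_mul]
    rw [psl_center, Subgroup.mem_bot, map_eq_one_iff e e.injective] at h3
    rw [Subgroup.mem_bot]
    exact congrArg Subtype.val h3
  obtain ⟨ψ, hψ⟩ : ∃ ψ : H →* MulAut P13, ∀ (h : H) (x : N), ψ h (e x) = e (MulAut.conjNormal h x) :=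
    ⟨(MulAut.congr e).toMonoidHom.comp MulAut.conjNormal, fun h x => by
      change e (MulAut.conjNormal h (e.symm (e x))) = _
      rw [e.symm_apply_apply]⟩
  have hinj : Function.Injective ψ := by
    rw [injective_iff_map_eq_one]
    intro g hg
    have h2 : g ∈ Subgroup.centralizer (N : Set H) := by
      rw [Subgroup.mem_centralizer_iff]
      intro t ht
      have h3 := hψ g ⟨t, ht⟩
      rw [hg, MulAut.one_apply] at h3
      have h4 : ((MulAut.conjNormal g (⟨t, ht⟩ : N) : N) : H) = t := by rw [← e.injective h3]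
      rw [MulAut.conjNormal_apply] at h4
      have h5 : g * t * g⁻¹ = t := h4
      rw [mul_inv_eq_iff_eq_mul] at h5
      exact h5.symm
    rwa [hcen, Subgroup.mem_bot] at h2
  have hconj : ∀ x : N, ψ (x : H) = MulAut.conj (e x) := fun x => by
    apply MulEquiv.ext
    intro y
    obtain ⟨z, rfl⟩ := e.surjective y
    rw [hψ, MulAut.conj_apply, ← map_inv, ← map_mul, ← map_mul]
    congr 1
  obtain ⟨φ, hφ⟩ : ∃ φ : Q →* H, ∀ g, φ g = ((e.symm (pr g) : N) : H) :=
    ⟨N.subtype.comp (e.symm.toMonoidHom.comp pr), fun g => rfl⟩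
  have hψφ : ∀ g, ψ (φ g) = MulAut.conj (pr g) := fun g => by
    rw [hφ, hconj, e.apply_symm_apply]
  have hrange : φ.range = N := by
    apply le_antisymm
    · rintro _ ⟨g, rfl⟩
      rw [hφ]; exact (e.symm (pr g)).2
    · intro x hx
      obtain ⟨g, hg⟩ := pr_surjective (e ⟨x, hx⟩)
      refine ⟨g, ?_⟩
      rw [hφ, hg, e.symm_apply_apply]
  refine ⟨φ, hrange, fun g => ?_, fun a b ha hb => ?_, ?_⟩
  · rw [hφ, ← pr_eq_one]
    constructor
    · intro h
      have h1 : e.symm (pr g) = 1 := Subtype.ext h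
      exact (map_eq_one_iff e.symm e.symm.injective).1 h1
    · intro h
      rw [h, map_one]; rfl
  · obtain ⟨A, hA⟩ := exists_gl (ψ a)
    obtain ⟨B, hB⟩ := exists_gl (ψ b)
    have key : ∀ (x : H) (C : GL13), ψ x = lift (cj C) →
        IsSquare (C : Matrix (Fin 2) (Fin 2) (ZMod 13)).det → x ∈ φ.range := fun x C hx hC => by
      obtain ⟨g, hg⟩ := inner_of_square hC
      exact ⟨g, hinj (by rw [hψφ, hx, hg])⟩
    refine key (a * b) (A * B) (by rw [map_mul, hA, hB, map_mul, map_mul]) ?_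
    rw [Units.val_mul, Matrix.det_mul]
    exact sq_mul _ _ (fun h => ha (key a A hA h)) (fun h => hb (key b B hB h))
  · have hsurj : ∀ x : ↥(Subgroup.centralizer ({φ (uu 1)} : Set H)), ∃ t : ZMod 13, (x : H) = φ (uu t) := by
      rintro ⟨x, hx⟩
      obtain ⟨A, hA⟩ := exists_gl (ψ x)
      have h1 : ψ x (pr (uu 1)) = pr (uu 1) := by
        have h2 : pr (uu 1) = e (e.symm (pr (uu 1))) := (e.apply_symm_apply _).symm
        rw [h2, hψ]
        congr 1
        apply Subtype.ext
        rw [MulAut.conjNormal_apply, ← hφ]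
        have h3 := Subgroup.mem_centralizer_iff.1 hx _ (Set.mem_singleton _)
        rw [← h3]; group
      rw [hA, lift_pr] at h1
      obtain ⟨t, ht⟩ := inner_of_fix h1
      exact ⟨t, hinj (by rw [hψφ, hA, ht])⟩
    choose f hf using hsurj
    have hfi : Function.Injective f := fun x y hxy => by
      apply Subtype.ext
      rw [hf x, hf y, hxy]
    calc Nat.card _ ≤ Nat.card (ZMod 13) := Nat.card_le_card_of_injective f hfi
      _ = 13 := by rw [Nat.card_eq_fintype_card, ZMod.card]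

end Cfsg.Agent.H1.L13
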